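import Mathlib
import Cfsg.Agent.Lib.Lead.SL2PresModel

/-!
Short presentations of three-dimensional special linear groups: the matrix model.
-/

set_option autoImplicit false

namespace Cfsg.Agent.Small.SL3Pres

open Matrix Cfsg.Agent.Lead.SL2Pres

variable {F : Type*} [Field F]

local notation "S2" => Matrix.SpecialLinearGroup (Fin 2) F
local notation "S3" => Matrix.SpecialLinearGroup (Fin 3) F

/-- The upper left block, as a function. -/
def embFun (g : S2) : S3 := ⟨!![g.1 0 0, g.1 0 1, 0; g.1 1 0, g.1 1 1, 0; 0, 0, 1], by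
    have h : g.1 0 0 * g.1 1 1 - g.1 0 1 * g.1 1 0 = 1 := by
      have := g.2; rwa [det_fin_two] at this
    simp [det_fin_three]; linear_combination h⟩

theorem embFun_coe (g : S2) :
    (embFun g).1 = !![g.1 0 0, g.1 0 1, 0; g.1 1 0, g.1 1 1, 0; 0, 0, 1] := rfl

/-- The upper left block. -/
def emb : S2 →* S3 where
  toFun := embFun
  map_one' := by
    apply Matrix.SpecialLinearGroup.ext; intro i j
    fin_cases i <;> fin_cases j <;> simp [embFun_coe]
  map_mul' g h := by
    apply Matrix.SpecialLinearGroup.ext; intro i j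
    simp only [Matrix.SpecialLinearGroup.coe_mul]
    fin_cases i <;> fin_cases j <;> simp [embFun_coe, Matrix.mul_apply, Fin.sum_univ_two, Fin.sum_univ_three]

theorem emb_coe (g : S2) :
    (emb g).1 = !![g.1 0 0, g.1 0 1, 0; g.1 1 0, g.1 1 1, 0; 0, 0, 1] := rfl

/-- The three-cycle. -/
def cm : S3 := ⟨!![0, 0, 1; 1, 0, 0; 0, 1, 0], by simp [det_fin_three]⟩

/-- The transpose of the three-cycle. -/
def cm' : S3 := ⟨!![0, 1, 0; 0, 0, 1; 1, 0, 0], by simp [det_fin_three]⟩

theorem cm_inv : (cm : S3)⁻¹ = cm' := by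
  rw [inv_eq_iff_mul_eq_one]
  apply Matrix.SpecialLinearGroup.ext; intro i j
  simp only [Matrix.SpecialLinearGroup.coe_mul, emb_coe]
  fin_cases i <;> fin_cases j <;> simp [cm, cm', Matrix.mul_apply, Fin.sum_univ_three]

theorem cm_cube : (cm : S3) ^ 3 = 1 := by
  have h : (cm : S3) * cm = cm⁻¹ := by
    rw [cm_inv]
    apply Matrix.SpecialLinearGroup.ext; intro i j
    simp only [Matrix.SpecialLinearGroup.coe_mul, emb_coe]
    fin_cases i <;> fin_cases j <;> simp [cm, cm', Matrix.mul_apply, Fin.sum_univ_three]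
  rw [pow_three, h, mul_inv_cancel]

/-- The inverse Weyl element. -/
def tw' : S2 := ⟨!![0, -1; 1, 0], by simp [det_fin_two]⟩

theorem tw_inv : (tw : S2)⁻¹ = tw' := by
  rw [inv_eq_iff_mul_eq_one]
  apply Matrix.SpecialLinearGroup.ext; intro i j
  simp only [Matrix.SpecialLinearGroup.coe_mul, emb_coe]
  fin_cases i <;> fin_cases j <;> simp [tw, tw', Matrix.mul_apply, Fin.sum_univ_two]

theorem tw_cm : emb (tw : S2) * cm = cm * (emb tw)⁻¹ * (cm : S3)⁻¹ := by
  rw [cm_inv, ← map_inv, tw_inv]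
  apply Matrix.SpecialLinearGroup.ext; intro i j
  simp only [Matrix.SpecialLinearGroup.coe_mul, emb_coe]
  fin_cases i <;> fin_cases j <;> simp [emb_coe, tw', tw, cm, cm', Matrix.mul_apply, Fin.sum_univ_three]

/-- Conjugation by a diagonal matrix, as a function. -/
def dconjFun (l : Fˣ) (g : S2) : S2 := ⟨!![g.1 0 0, ((l⁻¹ : Fˣ) : F) * g.1 0 1; (l : F) * g.1 1 0, g.1 1 1], by
    have h : g.1 0 0 * g.1 1 1 - g.1 0 1 * g.1 1 0 = 1 := by
      have := g.2; rwa [det_fin_two] at this
    have hl := Units.inv_mul l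
    simp only [det_fin_two_of]
    linear_combination h - g.1 0 1 * g.1 1 0 * hl⟩

theorem dconjFun_coe (l : Fˣ) (g : S2) :
    (dconjFun l g).1 = !![g.1 0 0, ((l⁻¹ : Fˣ) : F) * g.1 0 1; (l : F) * g.1 1 0, g.1 1 1] := rfl

/-- Conjugation by the diagonal matrix with entries one and `l`. -/
def dconj (l : Fˣ) : S2 →* S2 where
  toFun := dconjFun l
  map_one' := by
    apply Matrix.SpecialLinearGroup.ext; intro i j
    fin_cases i <;> fin_cases j <;> simp [dconjFun_coe]
  map_mul' g h := by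
    have hl : ((l⁻¹ : Fˣ) : F) * l = 1 := Units.inv_mul l
    apply Matrix.SpecialLinearGroup.ext; intro i j
    simp only [Matrix.SpecialLinearGroup.coe_mul, emb_coe]
    fin_cases i <;> fin_cases j <;> simp [dconjFun_coe, Matrix.mul_apply, Fin.sum_univ_two] <;>
      field_simp

theorem dconj_coe (l : Fˣ) (g : S2) :
    (dconj l g).1 = !![g.1 0 0, ((l⁻¹ : Fˣ) : F) * g.1 0 1; (l : F) * g.1 1 0, g.1 1 1] := rfl

theorem cm_dg_conj (l : Fˣ) (g : S2) :
    (cm * emb (dg l) * cm⁻¹) * emb g * (cm * emb (dg l) * cm⁻¹)⁻¹ = emb (dconj l g) := by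
  rw [mul_inv_eq_iff_eq_mul, cm_inv]
  apply Matrix.SpecialLinearGroup.ext; intro i j
  simp only [Matrix.SpecialLinearGroup.coe_mul, emb_coe, dconj_coe]
  fin_cases i <;> fin_cases j <;>
    simp [emb_coe, cm, cm', dg, dconj_coe, Matrix.mul_apply, Fin.sum_univ_three] <;> field_simp

theorem dconj_un (l : Fˣ) (a : F) : dconj l (un a) = un (((l⁻¹ : Fˣ) : F) * a) := by
  apply Matrix.SpecialLinearGroup.ext; intro i j
  rw [dconj_coe]
  fin_cases i <;> fin_cases j <;> simp [ un]

theorem dconj_ln (l : Fˣ) (a : F) : dconj l (ln a) = ln ((l : F) * a) := by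
  apply Matrix.SpecialLinearGroup.ext; intro i j
  rw [dconj_coe]
  fin_cases i <;> fin_cases j <;> simp [ ln]

theorem dconj_dg (l m : Fˣ) : dconj l (dg m) = dg m := by
  apply Matrix.SpecialLinearGroup.ext; intro i j
  rw [dconj_coe]
  fin_cases i <;> fin_cases j <;> simp [ dg]

theorem dconj_tw (l : Fˣ) : dconj l (tw : S2) = dg l⁻¹ * tw := by
  apply Matrix.SpecialLinearGroup.ext; intro i j
  simp only [Matrix.SpecialLinearGroup.coe_mul, emb_coe, dconj_coe]
  fin_cases i <;> fin_cases j <;> simp [dconj_coe, dg, tw, Matrix.mul_apply, Fin.sum_univ_two]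

theorem ln_add (a b : F) : ln (a + b) = ln a * ln b := by
  apply Matrix.SpecialLinearGroup.ext; intro i j
  simp only [Matrix.SpecialLinearGroup.coe_mul, emb_coe, dconj_coe]
  fin_cases i <;> fin_cases j <;> simp [ln, Matrix.mul_apply, Fin.sum_univ_two]

theorem dg_ln (l : Fˣ) (a : F) : dg l * ln a = ln (((l⁻¹ : Fˣ) : F) ^ 2 * a) * dg l := by
  apply Matrix.SpecialLinearGroup.ext; intro i j
  simp only [Matrix.SpecialLinearGroup.coe_mul, emb_coe, dconj_coe]
  fin_cases i <;> fin_cases j <;> simp [ln, dg, Matrix.mul_apply, Fin.sum_univ_two] <;> field_simp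

theorem tw_un (a : F) : tw * un a = ln (-a) * tw := by
  apply Matrix.SpecialLinearGroup.ext; intro i j
  simp only [Matrix.SpecialLinearGroup.coe_mul, emb_coe, dconj_coe]
  fin_cases i <;> fin_cases j <;> simp [ln, un, tw, Matrix.mul_apply, Fin.sum_univ_two]

theorem tw_eq : (tw : S2) = un 1 * ln (-1) * un 1 := by
  apply Matrix.SpecialLinearGroup.ext; intro i j
  simp only [Matrix.SpecialLinearGroup.coe_mul, emb_coe, dconj_coe]
  fin_cases i <;> fin_cases j <;> simp [ln, un, tw, Matrix.mul_apply, Fin.sum_univ_two]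

theorem dg_eq (l : Fˣ) : dg l = un (l : F) * ln (-((l⁻¹ : Fˣ) : F)) * un (l : F) * tw⁻¹ := by
  rw [tw_inv]
  apply Matrix.SpecialLinearGroup.ext; intro i j
  simp only [Matrix.SpecialLinearGroup.coe_mul, emb_coe, dconj_coe]
  fin_cases i <;> fin_cases j <;> simp [ln, un, dg, tw', Matrix.mul_apply, Fin.sum_univ_two]

theorem emb_un (a : F) (h : (0 : Fin 3) ≠ 1) : emb (un a) = Matrix.SpecialLinearGroup.transvection h a := by
  apply Matrix.SpecialLinearGroup.ext; intro i j
  rw [emb_coe]
  fin_cases i <;> fin_cases j <;>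
    simp [ un, Matrix.SpecialLinearGroup.transvection, Matrix.transvection, Matrix.single]

theorem emb_ln (a : F) (h : (1 : Fin 3) ≠ 0) : emb (ln a) = Matrix.SpecialLinearGroup.transvection h a := by
  apply Matrix.SpecialLinearGroup.ext; intro i j
  rw [emb_coe]
  fin_cases i <;> fin_cases j <;>
    simp [ ln, Matrix.SpecialLinearGroup.transvection, Matrix.transvection, Matrix.single]

theorem cm_conj_apply (M : S3) (k l : Fin 3) :
    (cm * M * (cm : S3)⁻¹).1 k l = M.1 (k + 2) (l + 2) := by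
  rw [cm_inv]
  simp only [Matrix.SpecialLinearGroup.coe_mul]
  fin_cases k <;> fin_cases l <;>
    simp [cm, cm', Matrix.mul_apply, Matrix.vecMul, dotProduct, Fin.sum_univ_three]

theorem cm_transvection {i j : Fin 3} (h : i ≠ j) (h' : i + 1 ≠ j + 1) (a : F) :
    cm * Matrix.SpecialLinearGroup.transvection h a * (cm : S3)⁻¹ =
      Matrix.SpecialLinearGroup.transvection h' a := by
  apply Matrix.SpecialLinearGroup.ext; intro k l
  rw [cm_conj_apply]
  simp only [Matrix.SpecialLinearGroup.transvection, Matrix.transvection, Matrix.add_apply,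
    Matrix.one_apply, Matrix.single_apply]
  have e : ∀ x y : Fin 3, (x = y + 2) ↔ (x + 1 = y) := by decide
  simp only [add_left_inj]
  simp only [e]

/-- The short commutator relation in the model. -/
theorem base_rel (k : F) :
    emb (un 1) * (cm * emb (un k) * cm⁻¹) * (emb (un (1 : F)))⁻¹ =
      (cm * cm * emb (ln k) * (cm⁻¹ * cm⁻¹)) * ((cm : S3) * emb (un k) * cm⁻¹) := by
  have hu : (un (1 : F))⁻¹ = un (-1) := by
    rw [inv_eq_iff_mul_eq_one, ← un_add, add_neg_cancel]
    apply Matrix.SpecialLinearGroup.ext; intro i j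
    fin_cases i <;> fin_cases j <;> simp [un]
  rw [← map_inv, hu, cm_inv]
  apply Matrix.SpecialLinearGroup.ext; intro i j
  simp only [Matrix.SpecialLinearGroup.coe_mul, emb_coe, dconj_coe]
  fin_cases i <;> fin_cases j <;> simp [emb_coe, un, ln, cm, cm', Matrix.mul_apply, Fin.sum_univ_three]

end Cfsg.Agent.Small.SL3Pres
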