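import Mathlib
import Cfsg.Agent.Lib.Small.SL3Pres.Model
import Cfsg.Agent.Lib.Small.SteinbergSLn
import Cfsg.Agent.Lib.Lead.SL2PresOdd

/-!
Short presentations of three-dimensional special linear groups: few relations force all of
Steinberg's relations.
-/

set_option autoImplicit false

namespace Cfsg.Agent.Small.SL3Pres

open Matrix Subgroup Cfsg.Agent.Lead.SL2Pres

variable {F : Type*} [Field F] {G : Type*} [Group G]

local notation "S2" => Matrix.SpecialLinearGroup (Fin 2) F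
local notation "S3" => Matrix.SpecialLinearGroup (Fin 3) F

/-- The relations. -/
structure Rels (F G : Type*) [Field F] [Group G] where
  ψ : Matrix.SpecialLinearGroup (Fin 2) F →* G
  C : G
  ζ : Fˣ
  gen : ∀ z : Fˣ, z ∈ Subgroup.zpowers ζ
  cube : C ^ 3 = 1
  twc : ψ tw * C = C * (ψ tw)⁻¹ * C⁻¹
  conj : ∀ g, (C * ψ (dg ζ) * C⁻¹) * ψ g * (C * ψ (dg ζ) * C⁻¹)⁻¹ = ψ (dconj ζ g)
  K : Set F
  ne : ∀ k ∈ K, k ≠ 0
  base : ∀ k ∈ K, ψ (un 1) * (C * ψ (un k) * C⁻¹) * (ψ (un 1))⁻¹ =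
    (C * C * ψ (ln k) * (C⁻¹ * C⁻¹)) * (C * ψ (un k) * C⁻¹)
  span : AddSubgroup.closure {x : F | ∃ k ∈ K, ∃ l : Fˣ, x = k * (l : F) ^ 3} = ⊤
  span' : AddSubgroup.closure {x : F | ∃ k ∈ K, ∃ l : Fˣ, x = k⁻¹ * (l : F) ^ 3} = ⊤

/-- The relations with an evaluation into the target, generating the group. -/
structure Data (F G : Type*) [Field F] [Group G] extends Rels F G where
  π : G →* Matrix.SpecialLinearGroup (Fin 3) F
  πψ : ∀ g, π (ψ g) = emb g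
  πC : π C = cm
  top : Subgroup.closure (Set.range ψ ∪ {C}) = ⊤

namespace Rels

variable [Finite F] (D : Rels F G)

/-- First torus. -/
def T1 (l : Fˣ) : G := D.ψ (dg l)

/-- Second torus. -/
def T2 (l : Fˣ) : G := D.C * D.T1 l * D.C⁻¹

/-- Third torus. -/
def T3 (l : Fˣ) : G := D.C * D.T2 l * D.C⁻¹

theorem C_inv : D.C⁻¹ = D.C * D.C := by
  rw [inv_eq_iff_mul_eq_one, ← D.cube, pow_three]

theorem T1_mul (l m : Fˣ) : D.T1 (l * m) = D.T1 l * D.T1 m := by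
  rw [T1, dg_mul, map_mul]; rfl

theorem T2_mul (l m : Fˣ) : D.T2 (l * m) = D.T2 l * D.T2 m := by
  simp only [T2, T1_mul]; group

theorem T2_conj (l : Fˣ) (g : S2) : D.T2 l * D.ψ g * (D.T2 l)⁻¹ = D.ψ (dconj l g) := by
  obtain ⟨n, rfl⟩ := zpow_surjective D.gen l
  induction n generalizing g with
  | zero =>
    have h1 : D.T2 1 = 1 := by simp [T2, T1, dg_one]
    have h2 : dconj (1 : Fˣ) g = g := by
      apply Matrix.SpecialLinearGroup.ext; intro i j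
      rw [dconj_coe]; fin_cases i <;> fin_cases j <;> simp
    rw [pow_zero, h1, h2]; simp
  | succ n ih =>
    have hd : dconj (D.ζ ^ n) (dconj D.ζ g) = dconj (D.ζ ^ (n + 1)) g := by
      apply Matrix.SpecialLinearGroup.ext; intro i j
      rw [dconj_coe, dconj_coe, dconj_coe]
      fin_cases i <;> fin_cases j <;> simp [pow_succ] <;> ring
    have hz : D.T2 D.ζ * D.ψ g * (D.T2 D.ζ)⁻¹ = D.ψ (dconj D.ζ g) := D.conj g
    calc D.T2 (D.ζ ^ (n + 1)) * D.ψ g * (D.T2 (D.ζ ^ (n + 1)))⁻¹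
        = D.T2 (D.ζ ^ n) * (D.T2 D.ζ * D.ψ g * (D.T2 D.ζ)⁻¹) * (D.T2 (D.ζ ^ n))⁻¹ := by
          rw [pow_succ, T2_mul]; group
      _ = D.ψ (dconj (D.ζ ^ (n + 1)) g) := by rw [hz, ih, hd]

theorem T2_comm_T1 (l m : Fˣ) : D.T2 l * D.T1 m * (D.T2 l)⁻¹ = D.T1 m := by
  rw [T1, D.T2_conj, dconj_dg]

theorem tw_T1 (l : Fˣ) : D.ψ tw * D.T1 l * (D.ψ tw)⁻¹ = (D.T1 l)⁻¹ := by
  have h : dg l⁻¹ = (dg l)⁻¹ := by
    rw [eq_inv_iff_mul_eq_one, ← dg_mul, inv_mul_cancel, dg_one]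
  rw [T1, ← map_mul, tw_dg, map_mul, mul_inv_cancel_right, h, map_inv]

theorem tw_T2 (l : Fˣ) : D.ψ tw * D.T2 l * (D.ψ tw)⁻¹ = D.T1 l * D.T2 l := by
  have h := D.T2_conj l tw
  rw [dconj_tw, map_mul] at h
  have h' : D.ψ (dg l⁻¹) = (D.T1 l)⁻¹ := by
    rw [T1, ← map_inv]; congr 1
    rw [eq_inv_iff_mul_eq_one, ← dg_mul, inv_mul_cancel, dg_one]
  rw [h'] at h
  have h2 : (D.ψ tw * D.T2 l * (D.ψ tw)⁻¹)⁻¹ = (D.T1 l * D.T2 l)⁻¹ := by
    calc (D.ψ tw * D.T2 l * (D.ψ tw)⁻¹)⁻¹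
        = (D.T2 l)⁻¹ * (D.T2 l * D.ψ tw * (D.T2 l)⁻¹) * (D.ψ tw)⁻¹ := by group
      _ = (D.T1 l * D.T2 l)⁻¹ := by rw [h]; group
  exact inv_injective h2

theorem tw_sq (g : G) : D.ψ tw * (D.ψ tw * g * (D.ψ tw)⁻¹) * (D.ψ tw)⁻¹ =
    D.T1 (-1) * g * (D.T1 (-1))⁻¹ := by
  have h : D.T1 (-1) = D.ψ tw * D.ψ tw := by rw [← map_mul, tw_tw]; rfl
  rw [h]; group

/-- The Weyl element, rewritten. -/
theorem tw_eq_C : D.ψ tw = D.C * (D.ψ tw)⁻¹ * D.C := by
  have h := D.twc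
  rw [← eq_mul_inv_iff_mul_eq] at h
  conv_lhs => rw [h]
  have hCC : D.C⁻¹ * D.C⁻¹ = D.C := by
    rw [D.C_inv]
    calc D.C * D.C * (D.C * D.C) = D.C ^ 3 * D.C := by rw [pow_three]; group
      _ = D.C := by rw [D.cube, one_mul]
  rw [mul_assoc _ D.C⁻¹ D.C⁻¹, hCC]

/-- The product of the three tori is trivial. -/
theorem T3_eq (l : Fˣ) : D.T3 l = (D.T1 l * D.T2 l)⁻¹ := by
  have h1 : D.ψ tw * D.T1 l * (D.ψ tw)⁻¹ = D.T2 l * D.T3 l := by
    have e : (D.ψ tw)⁻¹ * D.T2 l * D.ψ tw = D.T1 l * D.T2 l := by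
      have hc : D.T1 (-1) * D.T2 l * (D.T1 (-1))⁻¹ = D.T2 l := by
        calc D.T1 (-1) * D.T2 l * (D.T1 (-1))⁻¹
            = D.T2 l * D.T1 (-1) * (D.T2 l)⁻¹ * D.T2 l * (D.T1 (-1))⁻¹ := by rw [D.T2_comm_T1 l (-1)]
          _ = D.T2 l * D.T1 (-1) * (D.T1 (-1))⁻¹ := by group
          _ = D.T2 l := mul_inv_cancel_right _ _
      have h2 := D.tw_sq ((D.ψ tw)⁻¹ * D.T2 l * D.ψ tw)
      have h3 : D.ψ tw * D.T2 l * (D.ψ tw)⁻¹ = D.T1 (-1) * ((D.ψ tw)⁻¹ * D.T2 l * D.ψ tw) *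
          (D.T1 (-1))⁻¹ := by rw [← h2]; group
      rw [D.tw_T2] at h3
      have hc' : D.T1 (-1) * (D.T1 l * D.T2 l) * (D.T1 (-1))⁻¹ = D.T1 l * D.T2 l := by
        rw [← mul_assoc, ← D.T1_mul, mul_comm (-1) l, D.T1_mul]
        calc D.T1 l * D.T1 (-1) * D.T2 l * (D.T1 (-1))⁻¹
            = D.T1 l * (D.T1 (-1) * D.T2 l * (D.T1 (-1))⁻¹) := by group
          _ = D.T1 l * D.T2 l := by rw [hc]
      calc (D.ψ tw)⁻¹ * D.T2 l * D.ψ tw
          = (D.T1 (-1))⁻¹ * (D.T1 l * D.T2 l) * D.T1 (-1) := by rw [h3]; group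
        _ = D.T1 l * D.T2 l := by
            conv_lhs => rw [← hc']
            group
    calc D.ψ tw * D.T1 l * (D.ψ tw)⁻¹
        = D.C * ((D.ψ tw)⁻¹ * D.T2 l * D.ψ tw) * D.C⁻¹ := by
          conv_lhs => rw [D.tw_eq_C]
          simp only [T2]; group
      _ = D.C * (D.T1 l * D.T2 l) * D.C⁻¹ := by rw [e]
      _ = D.T2 l * D.T3 l := by simp only [T3, T2]; group
  rw [D.tw_T1, ← inv_mul_eq_iff_eq_mul] at h1
  rw [← h1]; group

theorem T3_conj (l : Fˣ) (g : S2) :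
    D.T3 l * D.ψ g * (D.T3 l)⁻¹ = D.ψ (dconj l⁻¹ ((dg l)⁻¹ * g * dg l)) := by
  have h2 : ∀ x : G, D.T2 l * x * (D.T2 l)⁻¹ = D.ψ g → x = D.ψ (dconj l⁻¹ g) := by
    intro x hx
    have h := D.T2_conj l (dconj l⁻¹ g)
    rw [show dconj l (dconj l⁻¹ g) = g by
      apply Matrix.SpecialLinearGroup.ext; intro i j
      rw [dconj_coe, dconj_coe]; fin_cases i <;> fin_cases j <;> simp, ← hx] at h
    exact mul_left_cancel (mul_right_cancel h.symm)
  have h3 := h2 ((D.T2 l)⁻¹ * D.ψ g * D.T2 l) (by group)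
  rw [D.T3_eq]
  calc (D.T1 l * D.T2 l)⁻¹ * D.ψ g * ((D.T1 l * D.T2 l)⁻¹)⁻¹
      = (D.T2 l)⁻¹ * ((D.T1 l)⁻¹ * D.ψ g * D.T1 l) * D.T2 l := by group
    _ = _ := by
      rw [T1, ← map_inv, ← map_mul, ← map_mul]
      have h4 : ∀ y : S2, (D.T2 l)⁻¹ * D.ψ y * D.T2 l = D.ψ (dconj l⁻¹ y) := by
        intro y
        have h := D.T2_conj l (dconj l⁻¹ y)
        rw [show dconj l (dconj l⁻¹ y) = y by
          apply Matrix.SpecialLinearGroup.ext; intro i j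
          rw [dconj_coe, dconj_coe]; fin_cases i <;> fin_cases j <;> simp] at h
        rw [← h]; group
      exact h4 _

/-- Root elements at the three basic positions. -/
def u01 (a : F) : G := D.ψ (un a)

/-- Root element. -/
def u10 (a : F) : G := D.ψ (ln a)

/-- Root element. -/
def u12 (a : F) : G := D.C * D.u01 a * D.C⁻¹

/-- Root element. -/
def u02 (a : F) : G := D.C⁻¹ * D.u10 a * D.C

theorem u01_add (a b : F) : D.u01 (a + b) = D.u01 a * D.u01 b := by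
  rw [u01, un_add, map_mul]; rfl

theorem u10_add (a b : F) : D.u10 (a + b) = D.u10 a * D.u10 b := by
  rw [u10, ln_add, map_mul]; rfl

theorem u12_add (a b : F) : D.u12 (a + b) = D.u12 a * D.u12 b := by
  simp only [u12, u01_add]; group

theorem u02_add (a b : F) : D.u02 (a + b) = D.u02 a * D.u02 b := by
  simp only [u02, u10_add]; group

theorem u01_neg (a : F) : D.u01 (-a) = (D.u01 a)⁻¹ := by
  rw [eq_inv_iff_mul_eq_one, ← D.u01_add, neg_add_cancel]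
  have h := D.u01_add 0 0
  rwa [add_zero, left_eq_mul] at h

theorem u12_neg (a : F) : D.u12 (-a) = (D.u12 a)⁻¹ := by
  simp only [u12, u01_neg]; group

theorem u02_neg (a : F) : D.u02 (-a) = (D.u02 a)⁻¹ := by
  rw [eq_inv_iff_mul_eq_one, ← D.u02_add, neg_add_cancel]
  have h := D.u02_add 0 0
  rwa [add_zero, left_eq_mul] at h

theorem T1_u01 (l : Fˣ) (a : F) :
    D.T1 l * D.u01 a * (D.T1 l)⁻¹ = D.u01 ((l : F) ^ 2 * a) := by
  simp only [T1, u01, ← map_inv, ← map_mul]; rw [dg_un, mul_inv_cancel_right]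

theorem T2_u01 (l : Fˣ) (a : F) :
    D.T2 l * D.u01 a * (D.T2 l)⁻¹ = D.u01 (((l⁻¹ : Fˣ) : F) * a) := by
  rw [u01, D.T2_conj, dconj_un]; rfl

theorem T1_u12 (l : Fˣ) (a : F) :
    D.T1 l * D.u12 a * (D.T1 l)⁻¹ = D.u12 (((l⁻¹ : Fˣ) : F) * a) := by
  have e : D.C * D.T3 l * D.C⁻¹ = D.T1 l := by
    simp only [T3, T2]
    calc D.C * (D.C * (D.C * D.T1 l * D.C⁻¹) * D.C⁻¹) * D.C⁻¹
        = D.C ^ 3 * D.T1 l * (D.C ^ 3)⁻¹ := by rw [pow_three]; group
      _ = D.T1 l := by rw [D.cube]; group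
  have h := D.T3_conj l (un a)
  have h' : (dg l)⁻¹ * un a * dg l = un (((l⁻¹ : Fˣ) : F) ^ 2 * a) := by
    have hd : dg l⁻¹ = (dg l)⁻¹ := by
      rw [eq_inv_iff_mul_eq_one, ← dg_mul, inv_mul_cancel, dg_one]
    rw [← hd, dg_un, hd, inv_mul_cancel_right]
  rw [h', dconj_un] at h
  calc D.T1 l * D.u12 a * (D.T1 l)⁻¹
      = D.C * (D.T3 l * D.ψ (un a) * (D.T3 l)⁻¹) * D.C⁻¹ := by
        conv_lhs => rw [← e]
        simp only [u12, u01]; group
    _ = D.u12 (((l⁻¹ : Fˣ) : F) * a) := by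
        rw [h]
        show D.u12 _ = D.u12 _
        congr 1
        rw [inv_inv, ← mul_assoc, pow_two, ← mul_assoc, Units.mul_inv, one_mul]

theorem T2_u12 (l : Fˣ) (a : F) :
    D.T2 l * D.u12 a * (D.T2 l)⁻¹ = D.u12 ((l : F) ^ 2 * a) := by
  have h := D.T1_u01 l a
  simp only [u12, T2]
  rw [← h]; group

theorem T1_u02 (l : Fˣ) (a : F) :
    D.T1 l * D.u02 a * (D.T1 l)⁻¹ = D.u02 ((l : F) * a) := by
  have h := D.T2_conj l (ln a)
  rw [dconj_ln] at h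
  calc D.T1 l * D.u02 a * (D.T1 l)⁻¹
      = D.C⁻¹ * (D.T2 l * D.ψ (ln a) * (D.T2 l)⁻¹) * D.C := by
        simp only [u02, u10, T2]; group
    _ = D.u02 ((l : F) * a) := by rw [h]; rfl

theorem T2_u02 (l : Fˣ) (a : F) :
    D.T2 l * D.u02 a * (D.T2 l)⁻¹ = D.u02 ((l : F) * a) := by
  have h := D.T3_conj l (ln a)
  have h' : (dg l)⁻¹ * ln a * dg l = ln ((l : F) ^ 2 * a) := by
    have hd : dg l⁻¹ = (dg l)⁻¹ := by
      rw [eq_inv_iff_mul_eq_one, ← dg_mul, inv_mul_cancel, dg_one]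
    rw [← hd, dg_ln, hd, inv_mul_cancel_right, inv_inv]
  rw [h', dconj_ln] at h
  calc D.T2 l * D.u02 a * (D.T2 l)⁻¹
      = D.C⁻¹ * (D.T3 l * D.ψ (ln a) * (D.T3 l)⁻¹) * D.C := by
        simp only [u02, u10, T3]; group
    _ = D.u02 ((l : F) * a) := by
        rw [h]
        show D.u02 _ = D.u02 _
        congr 1
        rw [← mul_assoc, pow_two, ← mul_assoc, Units.inv_mul, one_mul]

/-- The commutator formula at a pair of parameters. -/
def P (a b : F) : Prop := D.u01 a * D.u12 b * (D.u01 a)⁻¹ = D.u02 (a * b) * D.u12 b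

theorem P_orbit {k : F} (hk : k ∈ D.K) (a r : Fˣ) :
    D.P (a : F) (k * (r : F) ^ 3 / (a : F) ^ 2) := by
  set l := r with hl
  set m := r ^ 2 / a with hm
  have hb : D.P 1 k := by
    have h := D.base k hk
    rw [show D.C * D.C * D.ψ (ln k) * (D.C⁻¹ * D.C⁻¹) = D.u02 (1 * k) by
      rw [one_mul, u02, u10, D.C_inv]
      calc D.C * D.C * D.ψ (ln k) * (D.C * D.C * (D.C * D.C))
          = D.C * D.C * D.ψ (ln k) * (D.C * D.C ^ 3) := by rw [pow_three]; group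
        _ = D.C * D.C * D.ψ (ln k) * D.C := by rw [D.cube, mul_one]] at h
    exact h
  have hc : ∀ x : G, ∀ y, D.T1 l * (D.T2 m * (x * y) * (D.T2 m)⁻¹) * (D.T1 l)⁻¹ =
      (D.T1 l * (D.T2 m * x * (D.T2 m)⁻¹) * (D.T1 l)⁻¹) *
        (D.T1 l * (D.T2 m * y * (D.T2 m)⁻¹) * (D.T1 l)⁻¹) := fun x y => by group
  have hi : ∀ x : G, D.T1 l * (D.T2 m * x⁻¹ * (D.T2 m)⁻¹) * (D.T1 l)⁻¹ =
      (D.T1 l * (D.T2 m * x * (D.T2 m)⁻¹) * (D.T1 l)⁻¹)⁻¹ := fun x => by group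
  have h := congrArg (fun x => D.T1 l * (D.T2 m * x * (D.T2 m)⁻¹) * (D.T1 l)⁻¹) hb
  simp only [hc, hi, D.T2_u01, D.T2_u12, D.T2_u02, D.T1_u01, D.T1_u12, D.T1_u02] at h
  have hr : (r : F) ≠ 0 := r.ne_zero
  have ha : (a : F) ≠ 0 := a.ne_zero
  have e1 : (l : F) ^ 2 * (((m⁻¹ : Fˣ) : F) * 1) = (a : F) := by
    simp [hl, hm]; field_simp
  have e2 : ((l⁻¹ : Fˣ) : F) * ((m : F) ^ 2 * k) = k * (r : F) ^ 3 / (a : F) ^ 2 := by
    simp [hl, hm]; field_simp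
  have e3 : (l : F) * ((m : F) * (1 * k)) = (a : F) * (k * (r : F) ^ 3 / (a : F) ^ 2) := by
    simp [hl, hm]; field_simp
  rw [e1, e2, e3] at h
  exact h

theorem commute_add {f g : F → G} (hg : ∀ a b, g (a + b) = g a * g b) {a : F} {S : Set F}
    (hS : AddSubgroup.closure S = ⊤) (h : ∀ b ∈ S, Commute (f a) (g b)) (b : F) :
    Commute (f a) (g b) := by
  have hb : b ∈ AddSubgroup.closure S := hS ▸ AddSubgroup.mem_top b
  have h0 : g 0 = 1 := by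
    have := hg 0 0; rwa [add_zero, left_eq_mul] at this
  refine AddSubgroup.closure_induction (p := fun b _ => Commute (f a) (g b)) h
    (by rw [h0]; exact Commute.one_right _) (fun x y _ _ hx hy => by rw [hg]; exact hx.mul_right hy)
    (fun x _ hx => ?_) hb
  have : g (-x) = (g x)⁻¹ := by rw [eq_inv_iff_mul_eq_one, ← hg, neg_add_cancel, h0]
  rw [this]; exact hx.inv_right

theorem span_scale {S : Set F} (hS : AddSubgroup.closure S = ⊤) {c : F} (hc : c ≠ 0) :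
    AddSubgroup.closure {x : F | c * x ∈ S} = ⊤ := by
  rw [eq_top_iff]
  intro x _
  have hb : c * x ∈ AddSubgroup.closure S := hS ▸ AddSubgroup.mem_top _
  have key : ∀ y ∈ AddSubgroup.closure S, y / c ∈ AddSubgroup.closure {x : F | c * x ∈ S} := by
    intro y hy
    induction hy using AddSubgroup.closure_induction with
    | mem z hz => exact AddSubgroup.subset_closure (by simpa [mul_div_cancel₀ _ hc] using hz)
    | zero => simp
    | add u v _ _ hu hv => rw [add_div]; exact add_mem hu hv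
    | neg u _ hu => rw [neg_div]; exact neg_mem hu
  have := key _ hb
  rwa [mul_div_cancel_left₀ _ hc] at this

theorem comm_01_02 (a b : F) : Commute (D.u01 a) (D.u02 b) := by
  rcases eq_or_ne a 0 with rfl | ha
  · have h := D.u01_add 0 0
    rw [add_zero, left_eq_mul] at h
    rw [h]; exact Commute.one_left _
  refine commute_add D.u02_add (span_scale D.span ha) ?_ b
  rintro s ⟨k, hk, l, hs⟩
  have h1 := D.P_orbit hk (Units.mk0 a ha) l
  have h2 := D.P_orbit hk (-Units.mk0 a ha) l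
  simp only [Units.val_neg, Units.val_mk0, neg_sq] at h1 h2
  set b' := k * (l : F) ^ 3 / a ^ 2 with hb'
  unfold P at h1 h2
  rw [neg_mul, D.u01_neg, D.u02_neg, inv_inv] at h2
  have hs' : s = a * b' := by
    rw [hb', ← hs]; field_simp
  rw [hs']
  have h3 : D.u12 b' = (D.u01 a)⁻¹ * D.u02 (a * b') * D.u01 a *
      ((D.u02 (a * b'))⁻¹ * D.u12 b') := by
    calc D.u12 b' = (D.u01 a)⁻¹ * (D.u01 a * D.u12 b' * (D.u01 a)⁻¹) * D.u01 a := by group
      _ = (D.u01 a)⁻¹ * D.u02 (a * b') * D.u01 a * ((D.u01 a)⁻¹ * D.u12 b' * D.u01 a) := by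
          rw [h1]; group
      _ = _ := by rw [h2]
  rw [← mul_assoc, eq_comm, mul_eq_right, mul_inv_eq_one] at h3
  calc D.u01 a * D.u02 (a * b')
      = D.u01 a * ((D.u01 a)⁻¹ * D.u02 (a * b') * D.u01 a) := by rw [h3]
    _ = D.u02 (a * b') * D.u01 a := by group

theorem comm_12_02 (b s : F) : Commute (D.u12 b) (D.u02 s) := by
  rcases eq_or_ne b 0 with rfl | hb
  · have h := D.u12_add 0 0
    rw [add_zero, left_eq_mul] at h
    rw [h]; exact Commute.one_left _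
  refine commute_add D.u02_add (span_scale D.span' hb) ?_ s
  rintro s ⟨k, hk, l, hs⟩
  have hk0 := D.ne k hk
  have hl : (l : F) ≠ 0 := l.ne_zero
  have hs0 : s ≠ 0 := by
    rintro rfl
    rw [mul_zero] at hs
    exact mul_ne_zero (inv_ne_zero hk0) (pow_ne_zero _ hl) hs.symm
  have hs2 : s = (l : F) ^ 3 / (k * b) := by
    have hs' : b * s = k⁻¹ * (l : F) ^ 3 := hs
    field_simp at hs' ⊢
    linear_combination hs'
  set a := Units.mk0 (s / b) (div_ne_zero hs0 hb) with ha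
  set r := Units.mk0 ((l : F) ^ 2 / (k * b)) (div_ne_zero (pow_ne_zero _ hl) (mul_ne_zero hk0 hb)) * 1
  have e : k * (r : F) ^ 3 / (a : F) ^ 2 = b := by
    simp only [r, a, Units.val_mul, Units.val_one, mul_one, Units.val_mk0, hs2]
    field_simp
  have e' : k * ((-r : Fˣ) : F) ^ 3 / (a : F) ^ 2 = -b := by
    rw [Units.val_neg, show (-(r : F)) ^ 3 = -((r : F) ^ 3) by ring, mul_neg, neg_div, e]
  have h1 := D.P_orbit hk a r
  have h2 := D.P_orbit hk a (-r)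
  rw [e] at h1
  rw [e'] at h2
  have hab : (a : F) * b = s := by simp only [a, Units.val_mk0]; field_simp
  unfold P at h1 h2
  rw [hab] at h1
  rw [mul_neg, hab, D.u12_neg, D.u02_neg] at h2
  have h3 : (D.u12 b)⁻¹ * (D.u02 s)⁻¹ = (D.u02 s)⁻¹ * (D.u12 b)⁻¹ := by
    rw [← h2]
    calc (D.u12 b)⁻¹ * (D.u02 s)⁻¹ = (D.u02 s * D.u12 b)⁻¹ := (_root_.mul_inv_rev _ _).symm
      _ = D.u01 (a : F) * (D.u12 b)⁻¹ * (D.u01 (a : F))⁻¹ := by rw [← h1]; group
  exact (Commute.inv_inv_iff).1 h3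

theorem P_all (a b : F) : D.P a b := by
  rcases eq_or_ne a 0 with rfl | ha
  · have h := D.u01_add 0 0
    have h' := D.u02_add 0 0
    rw [add_zero, left_eq_mul] at h h'
    unfold P
    rw [h, zero_mul, h']; simp
  have hb : b ∈ AddSubgroup.closure {x : F | a ^ 2 * x ∈ {x : F | ∃ k ∈ D.K, ∃ l : Fˣ, x = k * (l : F) ^ 3}} :=
    (span_scale D.span (pow_ne_zero 2 ha)).symm ▸ AddSubgroup.mem_top b
  have hneg : ∀ x, D.P a x → D.P a (-x) := by
    intro x hx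
    unfold P at hx ⊢
    rw [mul_neg, D.u12_neg, D.u02_neg]
    have := (D.comm_12_02 x (a * x)).inv_inv
    calc D.u01 a * (D.u12 x)⁻¹ * (D.u01 a)⁻¹ = (D.u01 a * D.u12 x * (D.u01 a)⁻¹)⁻¹ := by group
      _ = (D.u12 x)⁻¹ * (D.u02 (a * x))⁻¹ := by rw [hx, _root_.mul_inv_rev]
      _ = _ := this.eq
  induction hb using AddSubgroup.closure_induction with
  | mem x hx =>
    obtain ⟨k, hk, l, hl⟩ := hx
    have h := D.P_orbit hk (Units.mk0 a ha) l
    rw [Units.val_mk0, ← hl, mul_div_cancel_left₀ _ (pow_ne_zero 2 ha)] at h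
    exact h
  | zero =>
    have h := D.u12_add 0 0
    have h' := D.u02_add 0 0
    rw [add_zero, left_eq_mul] at h h'
    unfold P
    rw [h, mul_zero, h']; simp
  | add x y _ _ hx hy =>
    unfold P at hx hy ⊢
    rw [mul_add, D.u12_add, D.u02_add]
    calc D.u01 a * (D.u12 x * D.u12 y) * (D.u01 a)⁻¹
        = D.u01 a * D.u12 x * (D.u01 a)⁻¹ * (D.u01 a * D.u12 y * (D.u01 a)⁻¹) := by group
      _ = D.u02 (a * x) * (D.u12 x * D.u02 (a * y)) * D.u12 y := by rw [hx, hy]; group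
      _ = _ := by rw [(D.comm_12_02 x (a * y)).eq]; group
  | neg x _ hx => exact hneg x hx

end Rels

end Cfsg.Agent.Small.SL3Pres
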