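import Mathlib
import Cfsg.Agent.Lib.Small.SL3Pres.Core

/-!
Short presentations of three-dimensional special linear groups: injectivity of the evaluation.
-/

set_option autoImplicit false

namespace Cfsg.Agent.Small.SL3Pres

open Matrix Subgroup Cfsg.Agent.Lead.SL2Pres

variable {F : Type*} [Field F] {G : Type*} [Group G]

namespace Rels

variable [Finite F] (D : Rels F G)

/-- Root element. -/
def u20 (a : F) : G := D.C⁻¹ * D.u01 a * D.C

/-- Root element. -/
def u21 (a : F) : G := D.C * D.u10 a * D.C⁻¹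

/-- All root elements. -/
def x (i j : Fin 3) (a : F) : G :=
  ![![1, D.u01 a, D.u02 a], ![D.u10 a, 1, D.u12 a], ![D.u20 a, D.u21 a, 1]] i j

theorem C_conj (i j : Fin 3) (a : F) : D.C * D.x i j a * D.C⁻¹ = D.x (i + 1) (j + 1) a := by
  have h3 : ∀ g : G, D.C * (D.C * g * D.C⁻¹) * D.C⁻¹ = D.C⁻¹ * g * D.C := fun g => by
    calc D.C * (D.C * g * D.C⁻¹) * D.C⁻¹ = D.C * D.C * g * (D.C⁻¹ * D.C⁻¹) := by group
      _ = D.C⁻¹ * g * D.C := by
          rw [D.C_inv]
          calc D.C * D.C * g * (D.C * D.C * (D.C * D.C)) = D.C * D.C * g * (D.C ^ 3 * D.C) := by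
                rw [pow_three]; group
            _ = D.C * D.C * g * D.C := by rw [D.cube, one_mul]
  fin_cases i <;> fin_cases j
  · show D.C * 1 * D.C⁻¹ = 1; group
  · show D.C * D.u01 a * D.C⁻¹ = D.u12 a; rfl
  · show D.C * D.u02 a * D.C⁻¹ = D.u10 a; simp only [u02]; group
  · show D.C * D.u10 a * D.C⁻¹ = D.u21 a; rfl
  · show D.C * 1 * D.C⁻¹ = 1; group
  · show D.C * D.u12 a * D.C⁻¹ = D.u20 a; simp only [u12, u20]; exact h3 _
  · show D.C * D.u20 a * D.C⁻¹ = D.u01 a; simp only [u20]; group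
  · show D.C * D.u21 a * D.C⁻¹ = D.u02 a; simp only [u21, u02]; exact h3 _
  · show D.C * 1 * D.C⁻¹ = 1; group

theorem x_add {i j : Fin 3} (h : i ≠ j) (a b : F) : D.x i j a * D.x i j b = D.x i j (a + b) := by
  fin_cases i <;> fin_cases j
  · exact absurd rfl h
  · exact (D.u01_add a b).symm
  · exact (D.u02_add a b).symm
  · exact (D.u10_add a b).symm
  · exact absurd rfl h
  · exact (D.u12_add a b).symm
  · show D.u20 a * D.u20 b = D.u20 (a + b); simp only [u20, u01_add]; group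
  · show D.u21 a * D.u21 b = D.u21 (a + b); simp only [u21, u10_add]; group
  · exact absurd rfl h

theorem x_self {i j : Fin 3} (h : i ≠ j) (a b : F) : Commute (D.x i j a) (D.x i j b) := by
  rw [commute_iff_eq, D.x_add h, D.x_add h, add_comm]

theorem shift_commute {i j k l : Fin 3} {a b : F} (h : Commute (D.x i j a) (D.x k l b)) :
    Commute (D.x (i + 1) (j + 1) a) (D.x (k + 1) (l + 1) b) := by
  have := h.map (MulAut.conj D.C).toMonoidHom
  simpa only [MulEquiv.coe_toMonoidHom, MulAut.conj_apply, D.C_conj] using this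

theorem x_comm {i j k l : Fin 3} (hij : i ≠ j) (hkl : k ≠ l) (hil : i ≠ l) (hjk : j ≠ k) (a b : F) :
    Commute (D.x i j a) (D.x k l b) := by
  have p0 : ∀ a b, Commute (D.x 0 1 a) (D.x 0 2 b) := D.comm_01_02
  have p1 : ∀ a b, Commute (D.x 1 2 a) (D.x 1 0 b) := fun a b => D.shift_commute (p0 a b)
  have p2 : ∀ a b, Commute (D.x 2 0 a) (D.x 2 1 b) := fun a b => D.shift_commute (p1 a b)
  have q0 : ∀ a b, Commute (D.x 1 2 a) (D.x 0 2 b) := D.comm_12_02
  have q1 : ∀ a b, Commute (D.x 2 0 a) (D.x 1 0 b) := fun a b => D.shift_commute (q0 a b)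
  have q2 : ∀ a b, Commute (D.x 0 1 a) (D.x 2 1 b) := fun a b => D.shift_commute (q1 a b)
  by_cases hik : i = k ∧ j = l
  · obtain ⟨rfl, rfl⟩ := hik; exact D.x_self hij a b
  fin_cases i <;> fin_cases j <;> fin_cases k <;> fin_cases l <;>
    first
      | exact absurd rfl hij
      | exact absurd rfl hkl
      | exact absurd rfl hil
      | exact absurd rfl hjk
      | exact absurd ⟨rfl, rfl⟩ hik
      | exact p0 a b | exact (p0 b a).symm | exact p1 a b | exact (p1 b a).symm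
      | exact p2 a b | exact (p2 b a).symm | exact q0 a b | exact (q0 b a).symm
      | exact q1 a b | exact (q1 b a).symm | exact q2 a b | exact (q2 b a).symm

theorem u12_neg_one (a : F) : D.T1 (-1) * D.u12 a * (D.T1 (-1))⁻¹ = D.u12 (-a) := by
  rw [D.T1_u12]; simp

theorem tw_u02 (a : F) : D.ψ tw * D.u02 a * (D.ψ tw)⁻¹ = D.u12 (-a) := by
  have h0 : D.ψ tw * D.u01 a * (D.ψ tw)⁻¹ = D.u10 (-a) := by
    rw [u01, u10, ← map_mul, tw_un, map_mul, mul_inv_cancel_right]
  have h1 : (D.ψ tw)⁻¹ * D.u12 a * D.ψ tw = D.C⁻¹ * D.u10 (-a) * D.C := by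
    rw [← h0]
    conv_rhs => rw [D.tw_eq_C]
    simp only [u12]; group
  have h2 : D.ψ tw * D.u02 (-a) * (D.ψ tw)⁻¹ = D.u12 a := by
    rw [show D.u02 (-a) = (D.ψ tw)⁻¹ * D.u12 a * D.ψ tw from h1.symm]; group
  have h3 : D.u02 a = (D.u02 (-a))⁻¹ := by rw [D.u02_neg, inv_inv]
  rw [h3, D.u12_neg, ← h2]; group

theorem tw_u12 (a : F) : D.ψ tw * D.u12 a * (D.ψ tw)⁻¹ = D.u02 a := by
  have h := D.tw_u02 (-a)
  rw [neg_neg] at h
  rw [← h, D.tw_sq, D.T1_u02]
  simp

theorem x_comm3 {i j l : Fin 3} (hij : i ≠ j) (hjl : j ≠ l) (hil : i ≠ l) (a b : F) :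
    D.x i j a * D.x j l b = D.x i l (a * b) * D.x j l b * D.x i j a := by
  have sh : ∀ {i j l : Fin 3}, (∀ a b, D.x i j a * D.x j l b = D.x i l (a * b) * D.x j l b * D.x i j a) →
      ∀ a b, D.x (i + 1) (j + 1) a * D.x (j + 1) (l + 1) b =
        D.x (i + 1) (l + 1) (a * b) * D.x (j + 1) (l + 1) b * D.x (i + 1) (j + 1) a := by
    intro i j l h a b
    simp only [← D.C_conj]
    calc D.C * D.x i j a * D.C⁻¹ * (D.C * D.x j l b * D.C⁻¹)
        = D.C * (D.x i j a * D.x j l b) * D.C⁻¹ := by group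
      _ = _ := by rw [h]; group
  have r0 : ∀ a b, D.x 0 1 a * D.x 1 2 b = D.x 0 2 (a * b) * D.x 1 2 b * D.x 0 1 a := by
    intro a b
    show D.u01 a * D.u12 b = D.u02 (a * b) * D.u12 b * D.u01 a
    rw [← mul_inv_eq_iff_eq_mul]
    exact D.P_all a b
  have s0 : ∀ a b, D.x 1 0 a * D.x 0 2 b = D.x 1 2 (a * b) * D.x 0 2 b * D.x 1 0 a := by
    intro a b
    show D.u10 a * D.u02 b = D.u12 (a * b) * D.u02 b * D.u10 a
    have h0 : ∀ a, D.ψ tw * D.u01 a * (D.ψ tw)⁻¹ = D.u10 (-a) := fun a => by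
      rw [u01, u10, ← map_mul, tw_un, map_mul, mul_inv_cancel_right]
    have h := congrArg (fun g => D.ψ tw * g * (D.ψ tw)⁻¹) (r0 (-a) b)
    have e : ∀ g g' : G, D.ψ tw * (g * g') * (D.ψ tw)⁻¹ =
        (D.ψ tw * g * (D.ψ tw)⁻¹) * (D.ψ tw * g' * (D.ψ tw)⁻¹) := fun g g' => by group
    have h' : D.ψ tw * (D.u01 (-a) * D.u12 b) * (D.ψ tw)⁻¹ =
        D.ψ tw * (D.u02 (-a * b) * D.u12 b * D.u01 (-a)) * (D.ψ tw)⁻¹ := h
    simp only [e, h0, D.tw_u02, D.tw_u12, neg_neg, neg_mul] at h'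
    exact h'
  have r1 := sh r0
  have r2 := sh r1
  have s1 := sh s0
  have s2 := sh s1
  fin_cases i <;> fin_cases j <;> fin_cases l <;>
    first
      | exact absurd rfl hij
      | exact absurd rfl hjl
      | exact absurd rfl hil
      | exact r0 a b | exact r1 a b | exact r2 a b
      | exact s0 a b | exact s1 a b | exact s2 a b

end Rels

namespace Data

variable [Finite F] (D : Data F G)

theorem πx {i j : Fin 3} (h : i ≠ j) (a : F) :
    D.π (D.x i j a) = Matrix.SpecialLinearGroup.transvection h a := by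
  have sh : ∀ {i j : Fin 3} (h : i ≠ j) (h' : i + 1 ≠ j + 1),
      D.π (D.x i j a) = Matrix.SpecialLinearGroup.transvection h a →
      D.π (D.x (i + 1) (j + 1) a) = Matrix.SpecialLinearGroup.transvection h' a := by
    intro i j h h' e
    rw [← D.C_conj, map_mul, map_mul, map_inv, D.πC, e, cm_transvection]
  have a0 : D.π (D.x 0 1 a) = Matrix.SpecialLinearGroup.transvection (show (0 : Fin 3) ≠ 1 by decide) a :=
    (D.πψ _).trans (emb_un a _)
  have b0 : D.π (D.x 1 0 a) = Matrix.SpecialLinearGroup.transvection (show (1 : Fin 3) ≠ 0 by decide) a :=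
    (D.πψ _).trans (emb_ln a _)
  have a1 := sh _ (by decide) a0
  have a2 := sh _ (by decide) a1
  have b1 := sh _ (by decide) b0
  have b2 := sh _ (by decide) b1
  fin_cases i <;> fin_cases j <;>
    first
      | exact absurd rfl h
      | exact a0 | exact a1 | exact a2 | exact b0 | exact b1 | exact b2

/-- The Steinberg datum of the presented group. -/
def st : SteinbergSLn.St 3 F G where
  x := D.x
  φ := D.π
  φx _ _ h t := D.πx h t
  xadd _ _ h t u := D.x_add h t u
  comm _ _ _ _ h1 h2 h3 h4 t u := D.x_comm h1 h2 h3 h4 t u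
  comm3 _ _ _ h1 h2 h3 t u := D.x_comm3 h1 h2 h3 t u
  three := le_rfl

theorem st_gen : D.st.gen Finset.univ = ⊤ := by
  set H := D.st.gen Finset.univ with hH
  have hx : ∀ {i j : Fin 3}, i ≠ j → ∀ a, D.x i j a ∈ H := fun h a =>
    D.st.x_mem_gen (Finset.mem_univ _) (Finset.mem_univ _) h a
  have hψ : ∀ g, D.ψ g ∈ H := by
    have hdg : ∀ l, D.ψ (dg l) ∈ H := by
      intro l
      have htw : D.ψ tw ∈ H := by
        rw [tw_eq, map_mul, map_mul]
        exact mul_mem (mul_mem (hx (i := 0) (j := 1) (by decide) 1) (hx (i := 1) (j := 0) (by decide) _))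
          (hx (i := 0) (j := 1) (by decide) 1)
      rw [dg_eq, map_mul, map_mul, map_mul, map_inv]
      exact mul_mem (mul_mem (mul_mem (hx (i := 0) (j := 1) (by decide) _)
        (hx (i := 1) (j := 0) (by decide) _)) (hx (i := 0) (j := 1) (by decide) _)) (inv_mem htw)
    have htw : D.ψ tw ∈ H := by
      rw [tw_eq, map_mul, map_mul]
      exact mul_mem (mul_mem (hx (i := 0) (j := 1) (by decide) 1) (hx (i := 1) (j := 0) (by decide) _))
        (hx (i := 0) (j := 1) (by decide) 1)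
    intro g
    rcases exists_bruhat g with ⟨b, l, rfl⟩ | ⟨b, l, c, rfl⟩
    · rw [map_mul]; exact mul_mem (hx (i := 0) (j := 1) (by decide) b) (hdg l)
    · rw [map_mul, map_mul, map_mul]
      exact mul_mem (mul_mem (mul_mem (hx (i := 0) (j := 1) (by decide) b) (hdg l)) htw)
        (hx (i := 0) (j := 1) (by decide) c)
  have hC : D.C ∈ H := by
    have h1 : D.C * (D.ψ tw)⁻¹ * D.C⁻¹ ∈ H := by
      rw [tw_eq, map_mul, map_mul]
      have e : D.C * (D.ψ (un 1) * D.ψ (ln (-1)) * D.ψ (un 1))⁻¹ * D.C⁻¹ =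
          (D.x 1 2 1)⁻¹ * (D.x 2 1 (-1))⁻¹ * (D.x 1 2 1)⁻¹ := by
        show _ = (D.u12 1)⁻¹ * (D.u21 (-1))⁻¹ * (D.u12 1)⁻¹
        simp only [Rels.u12, Rels.u21, Rels.u01, Rels.u10]; group
      rw [e]
      exact mul_mem (mul_mem (inv_mem (hx (by decide) _)) (inv_mem (hx (by decide) _)))
        (inv_mem (hx (by decide) _))
    rw [← D.twc] at h1
    have := mul_mem (inv_mem (hψ tw)) h1
    rwa [inv_mul_cancel_left] at this
  rw [eq_top_iff, ← D.top, Subgroup.closure_le]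
  rintro g (⟨s, rfl⟩ | rfl)
  · exact hψ s
  · exact hC

include D in
theorem injective : Function.Injective D.π := by
  rw [← MonoidHom.ker_eq_bot_iff, eq_bot_iff]
  intro g hg
  exact Subgroup.mem_bot.2 (D.st.inj Finset.univ g (by rw [D.st_gen]; exact Subgroup.mem_top _) hg)

end Data

end Cfsg.Agent.Small.SL3Pres

namespace Cfsg.Agent.Small.SL3Pres

open Matrix Subgroup Cfsg.Agent.Lead.SL2Pres

variable {F : Type*} [Field F]

/-- Homomorphisms on the rank one group agreeing on root elements are equal. -/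
theorem hom_ext2 {G : Type*} [Group G] {f g : Matrix.SpecialLinearGroup (Fin 2) F →* G}
    (hu : ∀ a, f (un a) = g (un a)) (hl : ∀ a, f (ln a) = g (ln a)) : f = g := by
  have ht : f tw = g tw := by rw [tw_eq]; simp only [map_mul, hu, hl]
  have hd : ∀ l, f (dg l) = g (dg l) := fun l => by
    rw [dg_eq]; simp only [map_mul, map_inv, hu, hl, ht]
  refine MonoidHom.ext fun x => ?_
  rcases exists_bruhat x with ⟨b, l, rfl⟩ | ⟨b, l, c, rfl⟩
  · simp only [map_mul, hu, hd]
  · simp only [map_mul, hu, hd, ht]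

/-- The relations define a homomorphism on the rank two group. -/
theorem Rels.exists_hom {G : Type*} [Group G] [Finite F] (D : Rels F G) :
    ∃ Φ : Matrix.SpecialLinearGroup (Fin 3) F →* G,
      (∀ (i j : Fin 3) (h : i ≠ j) (t : F), Φ (Matrix.SpecialLinearGroup.transvection h t) = D.x i j t) ∧
      (∀ g, Φ (emb g) = D.ψ g) ∧ Φ cm = D.C := by
  obtain ⟨e, he⟩ := SteinbergSLn.main (K := F) 3 le_rfl
  let f : {ij : Fin 3 × Fin 3 // ij.1 ≠ ij.2} × F → G := fun p => D.x p.1.1.1 p.1.1.2 p.2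
  have hf : ∀ r ∈ SteinbergSLn.rels 3 F, FreeGroup.lift f r = 1 := by
    rintro r ((⟨a, t, u, rfl⟩ | ⟨a, b, t, u, h1, h2, rfl⟩) | ⟨a, b, h, t, u, h2, rfl⟩)
    · simp only [map_mul, map_inv, FreeGroup.lift_apply_of, f]
      rw [D.x_add a.2, mul_inv_cancel]
    · simp only [map_mul, map_inv, FreeGroup.lift_apply_of, f]
      rw [(D.x_comm a.2 b.2 h1 h2 t u).eq]; group
    · obtain ⟨⟨i, j⟩, hij⟩ := a
      obtain ⟨⟨j', l⟩, hjl⟩ := b
      simp only at h h2 hij hjl
      subst h2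
      simp only [map_mul, map_inv, FreeGroup.lift_apply_of, f]
      rw [D.x_comm3 hij hjl h t u]; group
  let Φ : Matrix.SpecialLinearGroup (Fin 3) F →* G := (PresentedGroup.toGroup hf).comp e.symm.toMonoidHom
  have hΦ : ∀ (i j : Fin 3) (h : i ≠ j) (t : F), Φ (Matrix.SpecialLinearGroup.transvection h t) = D.x i j t := by
    intro i j h t
    have : e.symm (Matrix.SpecialLinearGroup.transvection h t) = PresentedGroup.of (⟨(i, j), h⟩, t) := by
      rw [MulEquiv.symm_apply_eq]; exact Subtype.ext (he ⟨(i, j), h⟩ t).symm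
    show PresentedGroup.toGroup hf (e.symm _) = _
    rw [this, PresentedGroup.toGroup.of]
  have hψ : ∀ g, Φ (emb g) = D.ψ g := by
    have : Φ.comp emb = D.ψ := hom_ext2
      (fun a => by rw [MonoidHom.comp_apply, emb_un a (by decide), hΦ]; rfl)
      (fun a => by rw [MonoidHom.comp_apply, emb_ln a (by decide), hΦ]; rfl)
    exact fun g => DFunLike.congr_fun this g
  refine ⟨Φ, hΦ, hψ, ?_⟩
  have hc : Φ.comp ((MulAut.conj (cm : Matrix.SpecialLinearGroup (Fin 3) F)).toMonoidHom.comp emb) =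
      (MulAut.conj D.C).toMonoidHom.comp D.ψ := hom_ext2
    (fun a => by
      show Φ (cm * emb (un a) * cm⁻¹) = D.C * D.ψ (un a) * D.C⁻¹
      rw [emb_un a (by decide), cm_transvection _ (by decide), hΦ]; rfl)
    (fun a => by
      show Φ (cm * emb (ln a) * cm⁻¹) = D.C * D.ψ (ln a) * D.C⁻¹
      rw [emb_ln a (by decide), cm_transvection _ (by decide), hΦ]; rfl)
  have hc' : Φ (cm * emb (tw : Matrix.SpecialLinearGroup (Fin 2) F)⁻¹ * cm⁻¹) = D.C * D.ψ tw⁻¹ * D.C⁻¹ :=
    DFunLike.congr_fun hc tw⁻¹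
  have e1 : (cm : Matrix.SpecialLinearGroup (Fin 3) F) = (emb tw)⁻¹ * (cm * emb (tw⁻¹) * cm⁻¹) := by
    rw [map_inv, ← tw_cm, inv_mul_cancel_left]
  conv_lhs => rw [e1]
  rw [map_mul, map_inv, hψ, hc', map_inv, ← D.twc, inv_mul_cancel_left]

end Cfsg.Agent.Small.SL3Pres
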