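import Mathlib
import Cfsg.Agent.Lib.Small.SL3Pres.Steinberg
import Cfsg.Agent.Lib.Lead.SL2PresEven
import Cfsg.Agent.S2286

/-!
Short presentations of three-dimensional special linear groups.
-/

set_option autoImplicit false

namespace Cfsg.Agent.Small.SL3Pres

open Matrix Subgroup Cfsg.Agent.Lead.SL2Pres

variable {F : Type*} [Field F] [Fintype F]

/-- Cubes span every field other than the one with four elements. -/
theorem cubes_span (h4 : Fintype.card F ≠ 4) :
    AddSubgroup.closure {x : F | ∃ l : Fˣ, x = (l : F) ^ 3} = ⊤ := by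
  obtain ⟨p, hp⟩ := CharP.exists F
  obtain ⟨n, hpp, hcard⟩ := FiniteField.card F p
  haveI : Fact p.Prime := ⟨hpp⟩
  haveI := hp
  obtain ⟨e, he⟩ : ∃ e : ℕ, (n : ℕ) = e := ⟨_, rfl⟩
  rw [he] at hcard
  have hF : Nat.card F = p ^ e := by rw [Nat.card_eq_fintype_card, hcard]
  obtain ⟨ζ, hζ⟩ := IsCyclic.exists_generator (α := Fˣ)
  have hord : orderOf ζ = p ^ e - 1 := by
    rw [orderOf_eq_card_of_forall_mem_zpowers hζ, Nat.card_units, hF]
  have hb : AddSubgroup.closure ((fun k => ((ζ : F) ^ 3) ^ k) '' Set.Iio e) = ⊤ := by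
    refine basis_of_generic p e hF _ fun d hd hde hlt h => ?_
    have hne : (ζ : F) ^ 3 ≠ 0 := pow_ne_zero _ ζ.ne_zero
    have h2 : ((ζ : F) ^ 3) ^ (p ^ d - 1) = 1 := by
      apply mul_right_cancel₀ hne
      rw [one_mul, ← pow_succ, Nat.sub_add_cancel (Nat.one_le_pow _ _ hpp.pos), h]
    have h1 : ζ ^ (3 * (p ^ d - 1)) = 1 := by
      apply Units.ext
      rw [Units.val_pow_eq_pow_val, pow_mul, Units.val_one]
      exact h2
    have h3 := orderOf_dvd_of_pow_eq_one h1
    rw [hord] at h3
    have h4' : 2 * d ≤ e := by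
      obtain ⟨k, hk⟩ := hde
      rcases Nat.lt_or_ge k 2 with hk2 | hk2
      · interval_cases k <;> omega
      · rw [hk, mul_comm]; exact Nat.mul_le_mul_left d hk2
    have h5 : p ^ (2 * d) ≤ p ^ e := Nat.pow_le_pow_right hpp.pos h4'
    have h6 : 2 ≤ p ^ d := le_trans hpp.two_le (Nat.le_self_pow hd.ne' p)
    have h7 := Nat.le_of_dvd (by omega) h3
    rw [two_mul, pow_add] at h5
    have h8 : p ^ d = 2 := by
      by_contra hne2
      have : 3 ≤ p ^ d := by omega
      have := Nat.mul_le_mul_right (p ^ d) this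
      omega
    have hp2 : p = 2 ∧ d = 1 := by
      have hp2 : p = 2 := by
        have := Nat.le_self_pow hd.ne' p
        have := hpp.two_le
        omega
      subst hp2
      exact ⟨rfl, Nat.pow_right_injective le_rfl (h8.trans (pow_one 2).symm)⟩
    obtain ⟨rfl, rfl⟩ := hp2
    have h9 : 2 ^ e ≤ 2 ^ 2 := by omega
    have h10 : e ≤ 2 := (Nat.pow_le_pow_iff_right one_lt_two).1 h9
    have : e = 2 := by omega
    subst this
    exact h4 (by rw [hcard]; rfl)
  rw [eq_top_iff, ← hb, AddSubgroup.closure_le]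
  rintro _ ⟨k, -, rfl⟩
  exact AddSubgroup.subset_closure ⟨ζ ^ k, by
    show ((ζ : F) ^ _) ^ k = _
    rw [Units.val_pow_eq_pow_val, ← pow_mul, ← pow_mul, mul_comm]⟩

/-- Two elements generating the rank one group. -/
theorem two_generators : ∃ g₁ g₂ : Matrix.SpecialLinearGroup (Fin 2) F,
    Subgroup.closure ({g₁, g₂} : Set (Matrix.SpecialLinearGroup (Fin 2) F)) = ⊤ := by
  obtain ⟨p, hp⟩ := CharP.exists F
  obtain ⟨n, hpp, hcard⟩ := FiniteField.card F p
  haveI : Fact p.Prime := ⟨hpp⟩
  haveI := hp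
  obtain ⟨ζ, hζ⟩ := IsCyclic.exists_generator (α := Fˣ)
  by_cases hsmall : (n : ℕ) = 1
  · refine ⟨un 1, tw, ?_⟩
    set K := Subgroup.closure ({un 1, tw} : Set (Matrix.SpecialLinearGroup (Fin 2) F))
    have hu : ∀ c : F, un c ∈ K := by
      intro c
      letI := ZMod.algebra F p
      have hbij : Function.Bijective (algebraMap (ZMod p) F) := by
        refine (Fintype.bijective_iff_injective_and_card _).2 ⟨(algebraMap (ZMod p) F).injective, ?_⟩
        rw [ZMod.card, hcard, hsmall, pow_one]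
      obtain ⟨m, rfl⟩ := hbij.2 c
      rw [show algebraMap (ZMod p) F m = ((m.val : ℕ) : F) by
        rw [← map_natCast (algebraMap (ZMod p) F), ZMod.natCast_zmod_val]]
      induction m.val with
      | zero =>
        rw [Nat.cast_zero]
        convert one_mem K
        apply Matrix.SpecialLinearGroup.ext; intro i j
        fin_cases i <;> fin_cases j <;> simp [un]
      | succ k ih => rw [Nat.cast_succ, un_add]; exact mul_mem ih (subset_closure (Or.inl rfl))
    have ht : tw ∈ K := subset_closure (Or.inr rfl)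
    refine surjective_of_gens (MonoidHom.id _) (fun x => ⟨x, rfl⟩) ζ hζ K hu ?_ ht
    have hl : ∀ c, ln c ∈ K := fun c => by
      have e : ln c = tw * un (-c) * tw⁻¹ := by rw [tw_un, neg_neg, mul_inv_cancel_right]
      rw [e]; exact mul_mem (mul_mem ht (hu _)) (inv_mem ht)
    rw [MonoidHom.id_apply, dg_eq]
    exact mul_mem (mul_mem (mul_mem (hu _) (hl _)) (hu _)) (inv_mem ht)
  · refine ⟨dg ζ, un 1 * tw, ?_⟩
    set K := Subgroup.closure ({dg ζ, un 1 * tw} : Set (Matrix.SpecialLinearGroup (Fin 2) F))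
    have hA : dg ζ ∈ K := subset_closure (Or.inl rfl)
    have hg : un 1 * tw ∈ K := subset_closure (Or.inr rfl)
    have hdi : ∀ l : Fˣ, dg l⁻¹ = (dg l)⁻¹ := fun l => by
      rw [eq_inv_iff_mul_eq_one, ← dg_mul, inv_mul_cancel, dg_one]
    have he : (1 : F) - (((ζ⁻¹ : Fˣ) : F)) ^ 2 ≠ 0 := by
      intro h
      have h1 : ζ ^ 2 = 1 := by
        apply inv_injective
        rw [inv_one, ← inv_pow]
        apply Units.ext
        rw [Units.val_pow_eq_pow_val, Units.val_one]
        exact (sub_eq_zero.mp h).symm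
      have h2 := orderOf_dvd_of_pow_eq_one h1
      rw [orderOf_eq_card_of_forall_mem_zpowers hζ, Nat.card_units, Nat.card_eq_fintype_card, hcard] at h2
      have h3 := Nat.le_of_dvd two_pos h2
      have h4 : p ^ 2 ≤ p ^ (n : ℕ) := Nat.pow_le_pow_right hpp.pos (by have := n.pos; omega)
      have h5 : 2 * 2 ≤ p ^ 2 := by rw [pow_two]; exact Nat.mul_le_mul hpp.two_le hpp.two_le
      omega
    set c₀ := (1 : F) - (((ζ⁻¹ : Fˣ) : F)) ^ 2 with hc₀
    have hc : un c₀ ∈ K := by
      have e : (un 1 * tw) * dg ζ * (un 1 * tw)⁻¹ * dg ζ = un c₀ := by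
        have e1 : (un 1 * tw) * dg ζ * (un 1 * tw)⁻¹ = un 1 * dg ζ⁻¹ * (un 1)⁻¹ := by
          rw [mul_assoc (un 1) tw, tw_dg]; group
        have e2 : dg ζ⁻¹ * (un (1 : F))⁻¹ * dg ζ = un (-(((ζ⁻¹ : Fˣ) : F)) ^ 2) := by
          rw [show (un (1 : F))⁻¹ = un (-1) by
            rw [inv_eq_iff_mul_eq_one, ← un_add, add_neg_cancel]
            apply Matrix.SpecialLinearGroup.ext; intro i j
            fin_cases i <;> fin_cases j <;> simp [un], dg_un, hdi, inv_mul_cancel_right]
          simp
        calc (un 1 * tw) * dg ζ * (un 1 * tw)⁻¹ * dg ζ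
            = un 1 * (dg ζ⁻¹ * (un 1)⁻¹ * dg ζ) := by rw [e1]; group
          _ = un c₀ := by rw [e2, ← un_add, hc₀, sub_eq_add_neg]
      rw [← e]
      exact mul_mem (mul_mem (mul_mem hg hA) (inv_mem hg)) hA
    have hdg : ∀ l, dg l ∈ K := fun l => by
      obtain ⟨k, rfl⟩ := zpow_surjective hζ l
      rw [dg_pow]; exact pow_mem hA k
    have hsq : ∀ l : Fˣ, un ((l : F) ^ 2 * c₀) ∈ K := fun l => by
      rw [show un ((l : F) ^ 2 * c₀) = dg l * un c₀ * (dg l)⁻¹ by rw [dg_un, mul_inv_cancel_right]]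
      exact mul_mem (mul_mem (hdg l) hc) (inv_mem (hdg l))
    have hspan : AddSubgroup.closure {x : F | ∃ l : Fˣ, x = (l : F) ^ 2} = ⊤ := by
      have hF : Nat.card F = p ^ (n : ℕ) := by rw [Nat.card_eq_fintype_card, hcard]
      have hb : AddSubgroup.closure ((fun k => ((ζ : F) ^ 2) ^ k) '' Set.Iio (n : ℕ)) = ⊤ := by
        refine basis_of_generic p n hF _ fun d hd hde hlt h => ?_
        have hne : (ζ : F) ^ 2 ≠ 0 := pow_ne_zero _ ζ.ne_zero
        have h2 : ((ζ : F) ^ 2) ^ (p ^ d - 1) = 1 := by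
          apply mul_right_cancel₀ hne
          rw [one_mul, ← pow_succ, Nat.sub_add_cancel (Nat.one_le_pow _ _ hpp.pos), h]
        have h1 : ζ ^ (2 * (p ^ d - 1)) = 1 := by
          apply Units.ext
          rw [Units.val_pow_eq_pow_val, pow_mul, Units.val_one]
          exact h2
        have h3 := orderOf_dvd_of_pow_eq_one h1
        rw [orderOf_eq_card_of_forall_mem_zpowers hζ, Nat.card_units, hF] at h3
        have h4 : p ^ (d + 1) ≤ p ^ (n : ℕ) := Nat.pow_le_pow_right hpp.pos hlt
        have h5 : 2 * p ^ d ≤ p ^ (d + 1) := by rw [pow_succ']; exact Nat.mul_le_mul_right _ hpp.two_le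
        have h6 : 1 < p ^ d := Nat.one_lt_pow hd.ne' hpp.one_lt
        have := Nat.le_of_dvd (by omega) h3
        omega
      rw [eq_top_iff, ← hb, AddSubgroup.closure_le]
      rintro _ ⟨k, -, rfl⟩
      exact AddSubgroup.subset_closure ⟨ζ ^ k, by
        show ((ζ : F) ^ _) ^ k = _
        rw [Units.val_pow_eq_pow_val, ← pow_mul, ← pow_mul, mul_comm]⟩
    have hu : ∀ c : F, un c ∈ K := by
      intro c
      have hc' : c / c₀ ∈ AddSubgroup.closure {x : F | ∃ l : Fˣ, x = (l : F) ^ 2} :=
        hspan ▸ AddSubgroup.mem_top _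
      have key : ∀ y ∈ AddSubgroup.closure {x : F | ∃ l : Fˣ, x = (l : F) ^ 2}, un (y * c₀) ∈ K := by
        intro y hy
        induction hy using AddSubgroup.closure_induction with
        | mem x hx => obtain ⟨l, rfl⟩ := hx; exact hsq l
        | zero =>
          rw [zero_mul]
          convert one_mem K
          apply Matrix.SpecialLinearGroup.ext; intro i j
          fin_cases i <;> fin_cases j <;> simp [un]
        | add a b _ _ ha hb => rw [add_mul, un_add]; exact mul_mem ha hb
        | neg a _ ha =>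
          have e : un (-a * c₀) = (un (a * c₀))⁻¹ := by
            rw [eq_inv_iff_mul_eq_one, ← un_add, neg_mul, neg_add_cancel]
            apply Matrix.SpecialLinearGroup.ext; intro i j
            fin_cases i <;> fin_cases j <;> simp [un]
          rw [e]; exact inv_mem ha
      have := key _ hc'
      rwa [div_mul_cancel₀ _ he] at this
    refine surjective_of_gens (MonoidHom.id _) (fun x => ⟨x, rfl⟩) ζ hζ K hu hA ?_
    rw [MonoidHom.id_apply, show (tw : Matrix.SpecialLinearGroup (Fin 2) F) = (un 1)⁻¹ * (un 1 * tw) by group]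
    exact mul_mem (inv_mem (hu 1)) hg

/-- A presentation of the rank one group plus few relations presents the rank two group. -/
theorem of_rank_one (rels₂ : Finset (FreeGroup (Fin 3)))
    (e : PresentedGroup (↑rels₂ : Set (FreeGroup (Fin 3))) ≃* Matrix.SpecialLinearGroup (Fin 2) F)
    (K : Finset F) (hne : ∀ k ∈ K, k ≠ 0)
    (hspan : AddSubgroup.closure {x : F | ∃ k ∈ (K : Set F), ∃ l : Fˣ, x = k * (l : F) ^ 3} = ⊤)
    (hspan' : AddSubgroup.closure {x : F | ∃ k ∈ (K : Set F), ∃ l : Fˣ, x = k⁻¹ * (l : F) ^ 3} = ⊤) :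
    ∃ rels : Finset (FreeGroup (Fin 4)), rels.card ≤ rels₂.card + (K.card + 4) ∧
      Nonempty (PresentedGroup (↑rels : Set (FreeGroup (Fin 4))) ≃* Matrix.SpecialLinearGroup (Fin 3) F) := by
  classical
  obtain ⟨ζ, hζ⟩ := IsCyclic.exists_generator (α := Fˣ)
  obtain ⟨g₁, g₂, hg⟩ := two_generators (F := F)
  let ι : FreeGroup (Fin 3) →* FreeGroup (Fin 4) := FreeGroup.map Fin.castSucc
  let q₂ := PresentedGroup.mk (↑rels₂ : Set (FreeGroup (Fin 3)))
  have hq₂ : Function.Surjective q₂ := PresentedGroup.mk_surjective _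
  choose w hw using fun s : Matrix.SpecialLinearGroup (Fin 2) F => hq₂ (e.symm s)
  let W : Matrix.SpecialLinearGroup (Fin 2) F → FreeGroup (Fin 4) := fun s => ι (w s)
  let c : FreeGroup (Fin 4) := FreeGroup.of (Fin.last 3)
  let cj : Matrix.SpecialLinearGroup (Fin 2) F → FreeGroup (Fin 4) := fun g =>
    c * W (dg ζ) * c⁻¹ * W g * (c * W (dg ζ) * c⁻¹)⁻¹ * (W (dconj ζ g))⁻¹
  let br : F → FreeGroup (Fin 4) := fun k => W (un 1) * (c * W (un k) * c⁻¹) * (W (un 1))⁻¹ *
    ((c * c * W (ln k) * (c⁻¹ * c⁻¹)) * (c * W (un k) * c⁻¹))⁻¹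
  let extra : Finset (FreeGroup (Fin 4)) :=
    {c ^ 3, W tw * c * (c * (W tw)⁻¹ * c⁻¹)⁻¹, cj g₁, cj g₂}
  let rels : Finset (FreeGroup (Fin 4)) := rels₂.image ι ∪ (K.image br ∪ extra)
  refine ⟨rels, ?_, ?_⟩
  · refine (Finset.card_union_le _ _).trans (Nat.add_le_add Finset.card_image_le ?_)
    refine (Finset.card_union_le _ _).trans (Nat.add_le_add Finset.card_image_le ?_)
    simp only [extra]
    repeat refine (Finset.card_insert_le _ _).trans (Nat.succ_le_succ ?_)
    simp
  set m := PresentedGroup.mk (↑rels : Set (FreeGroup (Fin 4))) with hm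
  have hone : ∀ r ∈ rels, m r = 1 := fun r hr => PresentedGroup.one_of_mem (Finset.mem_coe.mpr hr)
  -- the rank one group maps in
  have h2 : ∀ r ∈ (↑rels₂ : Set (FreeGroup (Fin 3))),
      FreeGroup.lift (fun i => m (ι (FreeGroup.of i))) r = 1 := by
    intro r hr
    have : FreeGroup.lift (fun i => m (ι (FreeGroup.of i))) = m.comp ι :=
      FreeGroup.ext_hom _ _ fun i => by simp
    rw [this]
    exact hone _ (Finset.mem_union_left _ (Finset.mem_image_of_mem _ hr))
  let j := PresentedGroup.toGroup h2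
  let ψ : Matrix.SpecialLinearGroup (Fin 2) F →* PresentedGroup (↑rels : Set (FreeGroup (Fin 4))) :=
    j.comp e.symm.toMonoidHom
  have hj : ∀ v, j (q₂ v) = m (ι v) := by
    intro v
    have : j.comp q₂ = m.comp ι := FreeGroup.ext_hom _ _ fun i => by
      show j (PresentedGroup.of i) = _
      simp [j, PresentedGroup.toGroup.of]
    exact DFunLike.congr_fun this v
  have hψ : ∀ s, ψ s = m (W s) := by
    intro s
    show j (e.symm s) = m (ι (w s))
    rw [← hj, hw]
  -- the map to matrices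
  let f : Fin 4 → Matrix.SpecialLinearGroup (Fin 3) F :=
    Fin.lastCases cm (fun i => emb (e (q₂ (FreeGroup.of i))))
  have hfι : ∀ v, FreeGroup.lift f (ι v) = emb (e (q₂ v)) := by
    intro v
    have : (FreeGroup.lift f).comp ι = (emb.comp e.toMonoidHom).comp q₂ :=
      FreeGroup.ext_hom _ _ fun i => by simp [ι, f]
    exact DFunLike.congr_fun this v
  have hfW : ∀ s, FreeGroup.lift f (W s) = emb s := by
    intro s; rw [hfι, hw, e.apply_symm_apply]
  have hfc : FreeGroup.lift f c = cm := by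
    show FreeGroup.lift f (FreeGroup.of (Fin.last 3)) = cm
    rw [FreeGroup.lift_apply_of]
    exact Fin.lastCases_last ..
  have hrels : ∀ r ∈ (↑rels : Set (FreeGroup (Fin 4))), FreeGroup.lift f r = 1 := by
    intro r hr
    simp only [rels, Finset.coe_union, Set.mem_union, Finset.coe_image, Set.mem_image, Finset.mem_coe] at hr
    rcases hr with ⟨v, hv, rfl⟩ | ⟨k, hk, rfl⟩ | hr
    · rw [hfι, show q₂ v = 1 from PresentedGroup.one_of_mem (Finset.mem_coe.mpr hv), map_one, map_one]
    · simp only [br, map_mul, map_inv, hfW, hfc]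
      rw [mul_inv_eq_one]
      exact base_rel k
    · simp only [extra, Finset.mem_insert, Finset.mem_singleton] at hr
      rcases hr with rfl | rfl | rfl | rfl
      · rw [map_pow, hfc, cm_cube]
      · simp only [map_mul, map_inv, hfW, hfc]
        rw [mul_inv_eq_one]; exact tw_cm
      · simp only [cj, map_mul, map_inv, hfW, hfc]
        rw [mul_inv_eq_one]; exact cm_dg_conj ζ g₁
      · simp only [cj, map_mul, map_inv, hfW, hfc]
        rw [mul_inv_eq_one]; exact cm_dg_conj ζ g₂
  let π := PresentedGroup.toGroup hrels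
  have hπm : ∀ v, π (m v) = FreeGroup.lift f v := fun v => rfl
  have hcj : ∀ g, m (cj g) = 1 → (m c * ψ (dg ζ) * (m c)⁻¹) * ψ g * (m c * ψ (dg ζ) * (m c)⁻¹)⁻¹ =
      ψ (dconj ζ g) := by
    intro g hg
    simp only [cj, map_mul, map_inv, ← hψ] at hg
    exact mul_inv_eq_one.mp hg
  let D : Data F (PresentedGroup (↑rels : Set (FreeGroup (Fin 4)))) :=
  { ψ := ψ
    C := m c
    ζ := ζ
    gen := hζ
    cube := by rw [← map_pow]; exact hone _ (by simp [rels, extra])
    twc := by
      have h := hone (W tw * c * (c * (W tw)⁻¹ * c⁻¹)⁻¹) (by simp [rels, extra])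
      simp only [map_mul, map_inv, ← hψ] at h
      exact mul_inv_eq_one.mp h
    conj := by
      intro g
      have heq : (MulAut.conj (m c * ψ (dg ζ) * (m c)⁻¹)).toMonoidHom.comp ψ = ψ.comp (dconj ζ) := by
        refine MonoidHom.eq_of_eqOn_dense hg ?_
        rintro x (rfl | rfl)
        · exact hcj _ (hone _ (by simp [rels, extra]))
        · exact hcj _ (hone _ (by simp [rels, extra]))
      exact DFunLike.congr_fun heq g
    K := (K : Set F)
    ne := fun k hk => hne k hk
    base := by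
      intro k hk
      have h := hone (br k) (Finset.mem_union_right _ (Finset.mem_union_left _ (Finset.mem_image_of_mem _ hk)))
      simp only [br, map_mul, map_inv, ← hψ] at h
      exact mul_inv_eq_one.mp h
    span := hspan
    span' := hspan'
    π := π
    πψ := fun g => by rw [hψ, hπm, hfW]
    πC := hfc
    top := by
      rw [eq_top_iff, ← PresentedGroup.closure_range_of (↑rels : Set (FreeGroup (Fin 4))), closure_le]
      rintro _ ⟨i, rfl⟩
      induction i using Fin.lastCases with
      | last => exact subset_closure (Or.inr rfl)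
      | cast i =>
        refine subset_closure (Or.inl ⟨e (q₂ (FreeGroup.of i)), ?_⟩)
        show j (e.symm (e (q₂ (FreeGroup.of i)))) = _
        rw [e.symm_apply_apply, hj]
        simp [ι, hm]; rfl }
  have hsurj : Function.Surjective π := by
    rw [← MonoidHom.range_eq_top, eq_top_iff, ← Classical.sl_closure_transvections, Subgroup.closure_le]
    rintro _ ⟨i, k, hik, t, rfl⟩
    exact ⟨D.x i k t, D.πx hik t⟩
  exact ⟨MulEquiv.ofBijective π ⟨D.injective, hsurj⟩⟩

end Cfsg.Agent.Small.SL3Pres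

namespace Cfsg.Agent.Small.SL3Pres

open Matrix Subgroup Cfsg.Agent.Lead.SL2Pres

/-- Four generators and at most fourteen relations. -/
theorem presentation {F : Type*} [Field F] [Fintype F] :
    ∃ rels : Finset (FreeGroup (Fin 4)), rels.card ≤ 14 ∧
      Nonempty (PresentedGroup (↑rels : Set (FreeGroup (Fin 4))) ≃* Matrix.SpecialLinearGroup (Fin 3) F) := by
  classical
  obtain ⟨p, hp⟩ := CharP.exists F
  obtain ⟨n, hpp, hcard⟩ := FiniteField.card F p
  haveI : Fact p.Prime := ⟨hpp⟩
  haveI := hp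
  by_cases h2 : p = 2
  · subst h2
    obtain ⟨e, he⟩ : ∃ e : ℕ, (n : ℕ) = e := ⟨_, rfl⟩
    rw [he] at hcard
    have hF : Nat.card F = 2 ^ e := by rw [Nat.card_eq_fintype_card, hcard]
    have hSL : Nat.card (Matrix.SpecialLinearGroup (Fin 2) F) = 2 ^ e * (2 ^ e - 1) * (2 ^ e + 1) := by
      rw [Cfsg.Agent.Small.SL2C.card_SL2, hcard, mul_assoc]
      congr 1
      rw [mul_comm, ← Nat.sq_sub_sq, one_pow]
    obtain ⟨r, hr, ⟨e₂⟩⟩ := even_case e hF (MonoidHom.id _) (fun x => ⟨x, rfl⟩)
      (fun a b h => un_injective h) hSL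
    obtain ⟨ζ, hζ⟩ := IsCyclic.exists_generator (α := Fˣ)
    have key : ∀ g : F → F, g 1 = 1 → (Fintype.card F = 4 → g (ζ : F) ≠ 0 ∧ g (ζ : F) ≠ 1) →
        AddSubgroup.closure {x : F | ∃ k ∈ (({1, (ζ : F)} : Finset F) : Set F),
          ∃ l : Fˣ, x = g k * (l : F) ^ 3} = ⊤ := by
      intro g hg hg4
      by_cases h4 : Fintype.card F = 4
      · obtain ⟨h0, h1⟩ := hg4 h4
        set H := AddSubgroup.closure {x : F | ∃ k ∈ (({1, (ζ : F)} : Finset F) : Set F),
          ∃ l : Fˣ, x = g k * (l : F) ^ 3}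
        haveI : Fintype H := Fintype.ofFinite H
        have m1 : (1 : F) ∈ H :=
          AddSubgroup.subset_closure ⟨1, by simp, 1, by simp [hg]⟩
        have m2 : g (ζ : F) ∈ H :=
          AddSubgroup.subset_closure ⟨(ζ : F), by simp, 1, by simp⟩
        apply AddSubgroup.eq_top_of_card_eq
        have hdvd := AddSubgroup.card_addSubgroup_dvd_card H
        rw [Nat.card_eq_fintype_card (α := F), h4] at hdvd ⊢
        have hge : 3 ≤ Nat.card H := by
          have hs : ({(0 : F), 1, g (ζ : F)} : Finset F).card = 3 := by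
            rw [Finset.card_insert_of_notMem, Finset.card_pair h1.symm]
            simp [h0.symm]
          rw [← hs, Nat.card_eq_fintype_card]
          refine Finset.card_le_card_of_injOn (s := ({(0 : F), 1, g (ζ : F)} : Finset F))
            (t := (Finset.univ : Finset H)) (fun x => if h : x ∈ H then ⟨x, h⟩ else 0) (fun _ _ => Finset.mem_univ _) ?_
          intro a ha b hb hab
          simp only [Finset.coe_insert, Finset.coe_singleton, Set.mem_insert_iff, Set.mem_singleton_iff] at ha hb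
          have ma : a ∈ H := by rcases ha with rfl | rfl | rfl <;> first | exact zero_mem _ | assumption
          have mb : b ∈ H := by rcases hb with rfl | rfl | rfl <;> first | exact zero_mem _ | assumption
          simpa [ma, mb] using hab
        have hle := Nat.le_of_dvd (by norm_num) hdvd
        interval_cases h : Nat.card H <;> omega
      · rw [eq_top_iff, ← cubes_span h4]
        refine AddSubgroup.closure_mono ?_
        rintro _ ⟨l, rfl⟩
        exact ⟨1, by simp, l, by rw [hg, one_mul]⟩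
    have hζ4 : Fintype.card F = 4 → (ζ : F) ≠ 1 := by
      intro h4 h
      have hz : ζ = 1 := Units.ext h
      have hord : orderOf ζ = Fintype.card F - 1 := by
        rw [orderOf_eq_card_of_forall_mem_zpowers hζ, Nat.card_units, Nat.card_eq_fintype_card]
      rw [hz, orderOf_one, h4] at hord
      omega
    obtain ⟨rels, hle, hiso⟩ := of_rank_one r e₂ {1, (ζ : F)}
      (by intro k hk; simp only [Finset.mem_insert, Finset.mem_singleton] at hk
          rcases hk with rfl | rfl
          · exact one_ne_zero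
          · exact ζ.ne_zero)
      (key id rfl fun h4 => ⟨ζ.ne_zero, hζ4 h4⟩)
      (key (fun k => k⁻¹) inv_one fun h4 => ⟨inv_ne_zero ζ.ne_zero, fun h => hζ4 h4 (inv_eq_one.mp h)⟩)
    refine ⟨rels, hle.trans ?_, hiso⟩
    have := Finset.card_le_two (a := (1 : F)) (b := (ζ : F))
    omega
  · obtain ⟨⟨r, hr, ⟨e₂⟩⟩, -, -⟩ := Cfsg.Agent.S2286.result (F := F)
    have h4 : Fintype.card F ≠ 4 := by
      intro h
      rw [hcard] at h
      have hd : p ∣ 2 ^ 2 := ⟨p ^ ((n : ℕ) - 1), by
        rw [← pow_succ', Nat.sub_add_cancel n.pos, h]; rfl⟩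
      exact h2 ((Nat.prime_dvd_prime_iff_eq hpp Nat.prime_two).mp (hpp.dvd_of_dvd_pow hd))
    have key : ∀ g : F → F, g 1 = 1 → AddSubgroup.closure {x : F | ∃ k ∈ (({1} : Finset F) : Set F),
        ∃ l : Fˣ, x = g k * (l : F) ^ 3} = ⊤ := by
      intro g hg
      rw [eq_top_iff, ← cubes_span h4]
      refine AddSubgroup.closure_mono ?_
      rintro _ ⟨l, rfl⟩
      exact ⟨1, by simp, l, by rw [hg, one_mul]⟩
    obtain ⟨rels, hle, hiso⟩ := of_rank_one r e₂ {1} (by intro k hk; simp at hk; simp [hk])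
      (key id rfl) (key (fun k => k⁻¹) inv_one)
    refine ⟨rels, hle.trans ?_, hiso⟩
    rw [Finset.card_singleton]
    omega

end Cfsg.Agent.Small.SL3Pres
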